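import Mathlib
import Groth.Agent.Lib.Helper5.Curve1.SepTens
import Groth.Agent.Lib.Helper5.Glue.C

/-!
# Sections on the intersection of two affine opens of a separated scheme
-/

set_option autoImplicit false
universe u
open CategoryTheory CategoryTheory.Limits AlgebraicGeometry TopologicalSpace Opposite

namespace Groth.Agent.H5.Pole

open Groth.Agent.H5.Glue Groth.Agent.H5.Curve1

variable {X : Scheme.{u}}

theorem res_range_sup_eq_top [X.IsSeparated] {U V : X.Opens} (hU : IsAffineOpen U)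
    (hV : IsAffineOpen V) :
    (res (inf_le_left : U ⊓ V ≤ U)).range ⊔ (res (inf_le_right : U ⊓ V ≤ V)).range = ⊤ := by
  haveI : IsAffine (U : Scheme.{u}) := hU
  haveI : IsAffine (V : Scheme.{u}) := hV
  obtain ⟨-, hsup⟩ := SepTens.isAffine_and_sup_eq_top U.ι V.ι
  have hPB := isPullback_opens_inf U V
  let e := hPB.isoPullback
  let ρ : Γ(pullback U.ι V.ι, ⊤) →+* Γ(X, U ⊓ V) := (e.hom.appTop ≫ (U ⊓ V).topIso.hom).hom
  haveI : IsIso e.hom.appTop := by
    change IsIso (e.hom.app ⊤)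
    infer_instance
  have hρsurj : Function.Surjective ρ :=
    (ConcreteCategory.bijective_of_isIso (e.hom.appTop ≫ (U ⊓ V).topIso.hom)).2
  have hfst : ∀ u, ρ ((pullback.fst U.ι V.ι).appTop.hom u) =
      res (inf_le_left : U ⊓ V ≤ U) (U.topIso.hom.hom u) := by
    intro u
    have h1 : (pullback.fst U.ι V.ι).appTop ≫ e.hom.appTop = (X.homOfLE inf_le_left).appTop := by
      rw [← Scheme.Hom.comp_appTop, hPB.isoPullback_hom_fst]
    have h2 : (X.homOfLE (inf_le_left : U ⊓ V ≤ U)).appTop ≫ (U ⊓ V).topIso.hom =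
        U.topIso.hom ≫ X.presheaf.map (homOfLE (inf_le_left : U ⊓ V ≤ U)).op := by
      rw [Scheme.homOfLE_appTop, Scheme.Opens.topIso_hom, Scheme.Opens.topIso_hom]
      exact (X.presheaf.map_comp _ _).symm.trans
        ((congrArg X.presheaf.map (Subsingleton.elim _ _)).trans (X.presheaf.map_comp _ _))
    have h3 : (pullback.fst U.ι V.ι).appTop ≫ e.hom.appTop ≫ (U ⊓ V).topIso.hom =
        U.topIso.hom ≫ X.presheaf.map (homOfLE (inf_le_left : U ⊓ V ≤ U)).op := by
      rw [← Category.assoc, h1, h2]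
    exact congrArg (fun φ => φ.hom u) h3
  have hsnd : ∀ v, ρ ((pullback.snd U.ι V.ι).appTop.hom v) =
      res (inf_le_right : U ⊓ V ≤ V) (V.topIso.hom.hom v) := by
    intro v
    have h1 : (pullback.snd U.ι V.ι).appTop ≫ e.hom.appTop = (X.homOfLE inf_le_right).appTop := by
      rw [← Scheme.Hom.comp_appTop, hPB.isoPullback_hom_snd]
    have h2 : (X.homOfLE (inf_le_right : U ⊓ V ≤ V)).appTop ≫ (U ⊓ V).topIso.hom =
        V.topIso.hom ≫ X.presheaf.map (homOfLE (inf_le_right : U ⊓ V ≤ V)).op := by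
      rw [Scheme.homOfLE_appTop, Scheme.Opens.topIso_hom, Scheme.Opens.topIso_hom]
      exact (X.presheaf.map_comp _ _).symm.trans
        ((congrArg X.presheaf.map (Subsingleton.elim _ _)).trans (X.presheaf.map_comp _ _))
    have h3 : (pullback.snd U.ι V.ι).appTop ≫ e.hom.appTop ≫ (U ⊓ V).topIso.hom =
        V.topIso.hom ≫ X.presheaf.map (homOfLE (inf_le_right : U ⊓ V ≤ V)).op := by
      rw [← Category.assoc, h1, h2]
    exact congrArg (fun φ => φ.hom v) h3
  rw [eq_top_iff]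
  intro c _
  obtain ⟨c', rfl⟩ := hρsurj c
  have hc : c' ∈ (pullback.fst U.ι V.ι).appTop.hom.range ⊔
      (pullback.snd U.ι V.ι).appTop.hom.range := by rw [hsup]; exact Subring.mem_top c'
  have h1 : ρ c' ∈ ((pullback.fst U.ι V.ι).appTop.hom.range ⊔
      (pullback.snd U.ι V.ι).appTop.hom.range).map ρ := Subring.mem_map.mpr ⟨c', hc, rfl⟩
  rw [Subring.map_sup] at h1
  refine SetLike.le_def.mp (sup_le_sup ?_ ?_) h1
  · rintro _ ⟨_, ⟨u, rfl⟩, rfl⟩
    exact ⟨_, (hfst u).symm⟩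
  · rintro _ ⟨_, ⟨v, rfl⟩, rfl⟩
    exact ⟨_, (hsnd v).symm⟩

end Groth.Agent.H5.Pole
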