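import Mathlib
import Groth.Agent.H4.PicDim1
import Groth.Agent.Lib.Helper5.Pole.C

/-!
# Local equations of closed points and dense affine opens (dimension `≤ 1`)
-/

set_option autoImplicit false
universe u
open CategoryTheory CategoryTheory.Limits AlgebraicGeometry TopologicalSpace Opposite

namespace Groth.Agent.H5.Pole

open Groth.Agent.H5.Glue Groth.Agent.H4

variable {X : Scheme.{u}}

lemma isMaximal_primeIdealOf_of_isClosed {V : X.Opens} (hV : IsAffineOpen V) (z : X) (hz : z ∈ V)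
    (hcl : IsClosed ({z} : Set X)) : (hV.primeIdealOf ⟨z, hz⟩).asIdeal.IsMaximal := by
  rw [← PrimeSpectrum.isClosed_singleton_iff_isMaximal]
  have : ({hV.primeIdealOf ⟨z, hz⟩} : Set (PrimeSpectrum Γ(X, V))) = hV.fromSpec ⁻¹' {z} := by
    ext q
    simp only [Set.mem_singleton_iff, Set.mem_preimage]
    constructor
    · rintro rfl
      exact hV.fromSpec_primeIdealOf ⟨z, hz⟩
    · intro h
      exact hV.fromSpec.isOpenEmbedding.injective
        (h.trans (hV.fromSpec_primeIdealOf ⟨z, hz⟩).symm)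
  rw [this]
  exact hcl.preimage hV.fromSpec.continuous

lemma primeIdealOf_fromSpec {V : X.Opens} (hV : IsAffineOpen V) (q : PrimeSpectrum Γ(X, V)) :
    ∃ hy : hV.fromSpec q ∈ V, hV.primeIdealOf ⟨hV.fromSpec q, hy⟩ = q := by
  have hy : hV.fromSpec q ∈ V := by
    have : hV.fromSpec q ∈ Set.range hV.fromSpec := ⟨q, rfl⟩
    rw [hV.range_fromSpec] at this
    exact this
  exact ⟨hy, hV.fromSpec.isOpenEmbedding.injective (hV.fromSpec_primeIdealOf ⟨_, hy⟩)⟩

/-- around a closed point `z` outside `U` (with `Uᶜ` a finite set of closed points) there is an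
affine open `V` and an equation `f` on `V` with `D(f) = V ∩ U = V ∖ {z}`. -/
theorem exists_local_equation [IsNoetherian X] (hdim : topologicalKrullDim X ≤ 1) (U : X.Opens)
    (hfin : ((U : Set X)ᶜ).Finite) (hcl : ∀ y : X, y ∉ U → IsClosed ({y} : Set X)) (z : X)
    (hz : z ∉ U) :
    ∃ (V : X.Opens) (_ : IsAffineOpen V) (_ : z ∈ V) (f : Γ(X, V)),
      X.basicOpen f = V ⊓ U ∧ ∀ y ∈ V, y ∉ U → y = z := by
  obtain ⟨_, ⟨V₀, hV₀, rfl⟩, hzV₀, -⟩ :=
    X.isBasis_affineOpens.exists_subset_of_mem_open (Set.mem_univ z) isOpen_univ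
  haveI : IsNoetherianRing Γ(X, V₀) := IsLocallyNoetherian.component_noetherian ⟨V₀, hV₀⟩
  haveI : Ring.KrullDimLE 1 Γ(X, V₀) := PicDim1.krullDimLE_sections hdim hV₀
  haveI hmax : (hV₀.primeIdealOf ⟨z, hzV₀⟩).asIdeal.IsMaximal :=
    isMaximal_primeIdealOf_of_isClosed hV₀ z hzV₀ (hcl z hz)
  obtain ⟨s', hs'm, s, hsm, hss⟩ := PicDim1.alg4 (hV₀.primeIdealOf ⟨z, hzV₀⟩).asIdeal
  let T : Set X := (U : Set X)ᶜ \ {z}
  have hTfin : T.Finite := hfin.subset Set.diff_subset
  have hTcl : IsClosed T := by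
    have : T = ⋃ y ∈ T, ({y} : Set X) := by simp
    rw [this]
    exact hTfin.isClosed_biUnion (fun y hy => hcl y hy.1)
  let W : X.Opens := X.basicOpen s ⊓ ⟨Tᶜ, hTcl.isOpen_compl⟩
  have hzW : z ∈ W :=
    ⟨(PicDim1.mem_basicOpen_iff hV₀ s z hzV₀).2 hsm, fun h => h.2 rfl⟩
  obtain ⟨h, hhW, hzh⟩ := hV₀.exists_basicOpen_le (V := W) ⟨z, hzW⟩ hzV₀
  have hle : X.basicOpen h ≤ V₀ := X.basicOpen_le h
  refine ⟨X.basicOpen h, hV₀.basicOpen h, hzh, res hle s', ?_, ?_⟩
  · have h1 : X.basicOpen (res hle s') = X.basicOpen h ⊓ X.basicOpen s' :=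
      Scheme.basicOpen_res _ _ _
    rw [h1]
    ext y
    simp only [Opens.coe_inf, Set.mem_inter_iff, SetLike.mem_coe]
    refine and_congr_right fun hy => ?_
    have hyV₀ : y ∈ V₀ := hle hy
    have hyW := hhW hy
    constructor
    · intro hys'
      by_contra hyU
      have hyz : y ≠ z := by
        rintro rfl
        exact (PicDim1.mem_basicOpen_iff hV₀ s' y hyV₀).1 hys' hs'm
      exact hyW.2 ⟨hyU, hyz⟩
    · intro hyU
      rw [PicDim1.mem_basicOpen_iff hV₀ s' y hyV₀]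
      intro hs'y
      have hsy : s ∉ (hV₀.primeIdealOf ⟨y, hyV₀⟩).asIdeal :=
        (PicDim1.mem_basicOpen_iff hV₀ s y hyV₀).1 hyW.1
      have := hss _ (hV₀.primeIdealOf ⟨y, hyV₀⟩).isPrime hs'y hsy
      have hyz := PicDim1.eq_of_primeIdealOf_eq hV₀ y z hyV₀ hzV₀ this
      exact hz (hyz ▸ hyU)
  · intro y hy hyU
    by_contra hyz
    exact (hhW hy).2 ⟨hyU, hyz⟩

/-- every point of a Noetherian scheme has a dense affine open neighbourhood. -/
theorem exists_dense_affine [IsNoetherian X] (x : X) :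
    ∃ U : X.Opens, IsAffineOpen U ∧ x ∈ U ∧ Dense (U : Set X) := by
  let S : Set X.Opens := {U | IsAffineOpen U ∧ x ∈ U}
  have hne : S.Nonempty := by
    obtain ⟨_, ⟨V₀, hV₀, rfl⟩, hxV₀, -⟩ :=
      X.isBasis_affineOpens.exists_subset_of_mem_open (Set.mem_univ x) isOpen_univ
    exact ⟨V₀, hV₀, hxV₀⟩
  haveI : WellFoundedGT X.Opens := inferInstanceAs (WellFoundedGT (Opens X))
  obtain ⟨U, ⟨hU, hxU⟩, hmax⟩ := (wellFounded_gt (α := X.Opens)).has_min S hne
  refine ⟨U, hU, hxU, ?_⟩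
  by_contra hnd
  rw [Dense] at hnd
  push Not at hnd
  obtain ⟨y, hy⟩ := hnd
  have hopen : IsOpen (closure (U : Set X))ᶜ := isClosed_closure.isOpen_compl
  obtain ⟨_, ⟨W, hW, rfl⟩, hyW, hWsub⟩ :=
    X.isBasis_affineOpens.exists_subset_of_mem_open hy hopen
  have hdisj : Disjoint U W := by
    rw [← Opens.coe_disjoint, Set.disjoint_left]
    intro t htU htW
    exact hWsub htW (subset_closure htU)
  have haff : IsAffineOpen (U ⊔ W) := hU.sup_of_disjoint hW hdisj
  have hlt : U < U ⊔ W := by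
    refine lt_of_le_of_ne le_sup_left fun heq => ?_
    have hyU : y ∈ U := by rw [heq]; exact Or.inr hyW
    exact hy (subset_closure hyU)
  exact hmax (U ⊔ W) ⟨haff, Or.inl hxU⟩ hlt

end Groth.Agent.H5.Pole
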