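import Mathlib
import Groth.Agent.Lib.Helper8.SemiLocalVal

/-!
# Pole functions: the local algebra (one-dimensional Noetherian local rings, not nec. reduced)
-/

set_option autoImplicit false
universe u
open Function IsDedekindDomain

namespace Groth.Agent.H5.Pole

open Groth.Agent.H8

/-- Simultaneously making finitely many valuations large on a commutative ring. -/
theorem exists_forall_one_lt_valuation {A : Type*} [CommRing A] {Γ₀ : Type*}
    [LinearOrderedCommGroupWithZero Γ₀] {ι : Type*} (v : ι → Valuation A Γ₀)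
    (s : Finset ι) (h : ∀ j ∈ s, ∃ a, 1 < v j a) :
    ∃ x, ∀ j ∈ s, 1 < v j x := by
  classical
  induction s using Finset.induction_on with
  | empty => exact ⟨1, by simp⟩
  | insert j s hj ih =>
    obtain ⟨x, hx⟩ := ih fun k hk => h k (Finset.mem_insert_of_mem hk)
    obtain ⟨a, ha⟩ := h j (Finset.mem_insert_self j s)
    by_cases hjx : 1 < v j x
    · refine ⟨x, fun k hk => ?_⟩
      rcases Finset.mem_insert.1 hk with rfl | hk
      · exact hjx
      · exact hx k hk
    push Not at hjx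
    let bad : Set ℕ := {0} ∪ ⋃ k ∈ s, {N | 1 < v k a ∧ v k a ^ N = v k x}
    have hbad : bad.Finite := by
      refine (Set.finite_singleton 0).union (Set.Finite.biUnion s.finite_toSet fun k _ => ?_)
      refine Set.Subsingleton.finite fun N hN M hM => ?_
      have hmono : StrictMono fun n : ℕ => v k a ^ n := pow_right_strictMono₀ hN.1
      exact hmono.injective (hN.2.trans hM.2.symm)
    obtain ⟨N, hN⟩ := hbad.infinite_compl.nonempty
    have hN0 : N ≠ 0 := fun h0 => hN (Or.inl (by simpa using h0))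
    have hNk : ∀ k ∈ s, 1 < v k a → v k a ^ N ≠ v k x := fun k hk h1 h2 =>
      hN (Or.inr (Set.mem_biUnion hk ⟨h1, h2⟩))
    have hjy : v j (x + a ^ N) = v j a ^ N := by
      rw [← map_pow]
      refine Valuation.map_add_eq_of_lt_right _ ?_
      rw [map_pow]
      exact lt_of_le_of_lt hjx (one_lt_pow₀ ha hN0)
    refine ⟨x + a ^ N, fun k hk => ?_⟩
    rcases Finset.mem_insert.1 hk with rfl | hk
    · rw [hjy]; exact one_lt_pow₀ ha hN0
    · by_cases hka : 1 < v k a
      · have hne : v k x ≠ v k (a ^ N) := by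
          rw [map_pow]; exact (hNk k hk hka).symm
        rw [Valuation.map_add_of_distinct_val _ hne]
        exact lt_max_of_lt_left (hx k hk)
      · push Not at hka
        have : v k (a ^ N) < v k x := by
          rw [map_pow]
          exact lt_of_le_of_lt (pow_le_one₀ zero_le hka) (hx k hk)
        rw [Valuation.map_add_eq_of_lt_left _ this]
        exact hx k hk


section Local

variable (R : Type u) [CommRing R] [IsLocalRing R] [IsNoetherianRing R] [Ring.KrullDimLE 1 R]
  (K : Type u) [CommRing K] [Algebra R K] (f : R) [IsLocalization.Away f K]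

instance isPrime_minimalPrimes (p : minimalPrimes R) : p.1.IsPrime := p.2.1.1

instance krullDimLE_quot (p : minimalPrimes R) : Ring.KrullDimLE 1 (R ⧸ p.1) :=
  Ring.krullDimLE_iff.mpr ((ringKrullDim_quotient_le p.1).trans (Ring.krullDimLE_iff.mp ‹_›))

instance isLocalRing_quot (p : minimalPrimes R) : IsLocalRing (R ⧸ p.1) :=
  .of_surjective' _ Ideal.Quotient.mk_surjective

instance finite_maxSpec_quot (p : minimalPrimes R) : Finite (MaximalSpectrum (R ⧸ p.1)) := by
  haveI : Subsingleton (MaximalSpectrum (R ⧸ p.1)) := ⟨fun m m' => by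
    ext1
    rw [IsLocalRing.eq_maximalIdeal m.isMaximal, IsLocalRing.eq_maximalIdeal m'.isMaximal]⟩
  exact Finite.of_subsingleton

variable {R} in
/-- the map to the fraction field of the quotient by a minimal prime -/
noncomputable def gp (p : minimalPrimes R) : R →+* FractionRing (R ⧸ p.1) :=
  (algebraMap (R ⧸ p.1) (FractionRing (R ⧸ p.1))).comp (Ideal.Quotient.mk p.1)

variable {R}

lemma gp_eq_zero_iff (p : minimalPrimes R) (r : R) : gp p r = 0 ↔ r ∈ p.1 := by
  unfold gp
  rw [RingHom.comp_apply, map_eq_zero_iff _ (IsFractionRing.injective _ _),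
    Ideal.Quotient.eq_zero_iff_mem]

variable {f} (hfm : f ∈ IsLocalRing.maximalIdeal R) (hfp : ∀ p ∈ minimalPrimes R, f ∉ p)

include hfm hfp in
lemma not_isField_quot (p : minimalPrimes R) : ¬ IsField (R ⧸ p.1) := by
  intro h
  have hmax : p.1.IsMaximal := Ideal.Quotient.maximal_of_isField _ h
  have : p.1 = IsLocalRing.maximalIdeal R := IsLocalRing.eq_maximalIdeal hmax
  exact hfp p.1 p.2 (this ▸ hfm)

include hfp in
lemma isUnit_gp (p : minimalPrimes R) : IsUnit (gp p f) := by
  rw [isUnit_iff_ne_zero, Ne, gp_eq_zero_iff]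
  exact hfp p.1 p.2

/-- the induced map on the localization away from `f` -/
noncomputable def ψ (p : minimalPrimes R) : K →+* FractionRing (R ⧸ p.1) :=
  IsLocalization.Away.lift f (isUnit_gp hfp p)

lemma ψ_algebraMap (p : minimalPrimes R) (r : R) : ψ K hfp p (algebraMap R K r) = gp p r :=
  IsLocalization.Away.lift_eq _ _ _


instance isDedekind_ic (p : minimalPrimes R) :
    IsDedekindDomain (integralClosure (R ⧸ p.1) (FractionRing (R ⧸ p.1))) :=
  SL1.isDedekindDomain_integralClosure (R ⧸ p.1) (FractionRing (R ⧸ p.1))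

instance isFractionRing_ic (p : minimalPrimes R) :
    IsFractionRing (integralClosure (R ⧸ p.1) (FractionRing (R ⧸ p.1)))
      (FractionRing (R ⧸ p.1)) :=
  integralClosure.isFractionRing_of_finite_extension (FractionRing (R ⧸ p.1))
    (FractionRing (R ⧸ p.1))

instance finite_heightOne_ic (p : minimalPrimes R) :
    Finite (HeightOneSpectrum (integralClosure (R ⧸ p.1) (FractionRing (R ⧸ p.1)))) := by
  haveI := SL1.finite_maximalSpectrum_integralClosure (R ⧸ p.1) (FractionRing (R ⧸ p.1))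
  exact Finite.of_injective (fun v : HeightOneSpectrum
      (integralClosure (R ⧸ p.1) (FractionRing (R ⧸ p.1))) =>
      (⟨v.asIdeal, v.isMaximal⟩ : MaximalSpectrum
        (integralClosure (R ⧸ p.1) (FractionRing (R ⧸ p.1)))))
      (fun v w h => HeightOneSpectrum.ext (congrArg MaximalSpectrum.asIdeal h))

include hfm in
/-- `f` has valuation `< 1` at every place of the normalisation of `R/p`. -/
lemma valuation_gp_lt_one (p : minimalPrimes R)
    (v : HeightOneSpectrum (integralClosure (R ⧸ p.1) (FractionRing (R ⧸ p.1)))) :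
    v.valuation (FractionRing (R ⧸ p.1)) (gp p f) < 1 := by
  let D := integralClosure (R ⧸ p.1) (FractionRing (R ⧸ p.1))
  let z : D := algebraMap (R ⧸ p.1) D (Ideal.Quotient.mk p.1 f)
  have hz : (gp p f) = algebraMap D (FractionRing (R ⧸ p.1)) z := rfl
  rw [hz, v.valuation_lt_one_iff_mem]
  haveI : v.asIdeal.IsMaximal := v.isMaximal
  have hmax : (v.asIdeal.comap (algebraMap (R ⧸ p.1) D)).IsMaximal :=
    Ideal.isMaximal_comap_of_isIntegral_of_isMaximal v.asIdeal
  have heq := IsLocalRing.eq_maximalIdeal hmax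
  have hmem : Ideal.Quotient.mk p.1 f ∈ IsLocalRing.maximalIdeal (R ⧸ p.1) := by
    rw [IsLocalRing.mem_maximalIdeal, mem_nonunits_iff]
    intro hu
    obtain ⟨y, hy⟩ := hu.exists_right_inv
    obtain ⟨y', rfl⟩ := Ideal.Quotient.mk_surjective y
    rw [← map_mul, ← map_one (Ideal.Quotient.mk p.1), Ideal.Quotient.eq] at hy
    have hpm : p.1 ≤ IsLocalRing.maximalIdeal R := IsLocalRing.le_maximalIdeal p.2.1.1.ne_top
    have h1 : f * y' - 1 ∈ IsLocalRing.maximalIdeal R := hpm hy
    have h2 : f * y' ∈ IsLocalRing.maximalIdeal R := Ideal.mul_mem_right _ _ hfm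
    have h3 : (1 : R) ∈ IsLocalRing.maximalIdeal R := by
      have := Ideal.sub_mem _ h2 h1
      rwa [sub_sub_cancel] at this
    exact (Ideal.ne_top_iff_one _).1 (IsLocalRing.maximalIdeal.isMaximal R).ne_top h3
  rw [← heq] at hmem
  exact hmem

include hfm in
lemma exists_one_lt (p : minimalPrimes R)
    (v : HeightOneSpectrum (integralClosure (R ⧸ p.1) (FractionRing (R ⧸ p.1))))
    {A : Type*} [CommRing A] (φ : A →+* K) (hgen : φ.range ⊔ (algebraMap R K).range = ⊤) :
    ∃ a : A, 1 < v.valuation (FractionRing (R ⧸ p.1)) (ψ K hfp p (φ a)) := by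
  by_contra hcon
  push Not at hcon
  let VS : Subring (FractionRing (R ⧸ p.1)) :=
    (v.valuation (FractionRing (R ⧸ p.1))).valuationSubring.toSubring
  have h1 : φ.range.map (ψ K hfp p) ≤ VS := by
    rintro _ ⟨_, ⟨a, rfl⟩, rfl⟩
    exact hcon a
  have h2 : (algebraMap R K).range.map (ψ K hfp p) ≤ VS := by
    rintro _ ⟨_, ⟨r, rfl⟩, rfl⟩
    rw [ψ_algebraMap]
    exact v.valuation_le_one (K := FractionRing (R ⧸ p.1))
      (algebraMap (R ⧸ p.1) (integralClosure (R ⧸ p.1) (FractionRing (R ⧸ p.1)))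
        (Ideal.Quotient.mk p.1 r))
  have h3 : (⊤ : Subring K).map (ψ K hfp p) ≤ VS := by
    rw [← hgen, Subring.map_sup]
    exact sup_le h1 h2
  have h4 : ψ K hfp p (IsLocalization.Away.invSelf f) ∈ VS :=
    h3 ⟨_, Subring.mem_top _, rfl⟩
  have h5 : ψ K hfp p (IsLocalization.Away.invSelf f) * gp p f = 1 := by
    rw [← ψ_algebraMap K hfp, ← map_mul, mul_comm, IsLocalization.Away.mul_invSelf, map_one]
  have h6 := valuation_gp_lt_one hfm p v
  have h7 : v.valuation (FractionRing (R ⧸ p.1)) (ψ K hfp p (IsLocalization.Away.invSelf f)) ≤ 1 :=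
    h4
  have h8 := congrArg (v.valuation (FractionRing (R ⧸ p.1))) h5
  rw [map_mul, map_one] at h8
  have : v.valuation (FractionRing (R ⧸ p.1)) (ψ K hfp p (IsLocalization.Away.invSelf f)) *
      v.valuation (FractionRing (R ⧸ p.1)) (gp p f) < 1 := by
    calc _ ≤ 1 * v.valuation (FractionRing (R ⧸ p.1)) (gp p f) := by gcongr
      _ < 1 := by rw [one_mul]; exact h6
  exact absurd h8 this.ne


include hfm in
lemma ker_ψ_le (P : Ideal K) [P.IsPrime] :
    ∃ p : minimalPrimes R, RingHom.ker (ψ K hfp p) ≤ P := by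
  have hfu : IsUnit (algebraMap R K f) := IsLocalization.Away.algebraMap_isUnit f
  have hfP : ∀ n : ℕ, algebraMap R K f ^ n ∉ P := fun n h =>
    (Ideal.IsPrime.ne_top ‹_›) (Ideal.eq_top_of_isUnit_mem _ h (hfu.pow n))
  have hprime : (P.comap (algebraMap R K)).IsPrime := inferInstance
  rcases Ring.krullDimLE_one_iff.mp ‹_› _ hprime with h | h
  · refine ⟨⟨_, h⟩, fun y hy => ?_⟩
    obtain ⟨n, r, hr⟩ := IsLocalization.Away.surj f y
    have h1 : gp ⟨_, h⟩ r = 0 := by
      rw [← ψ_algebraMap K hfp, ← hr, map_mul, RingHom.mem_ker.1 hy, zero_mul]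
    rw [gp_eq_zero_iff] at h1
    have h2 : y * algebraMap R K f ^ n ∈ P := by rw [hr]; exact h1
    exact (Ideal.IsPrime.mem_or_mem ‹_› h2).resolve_right (hfP n)
  · exfalso
    have := IsLocalRing.eq_maximalIdeal h
    have hf' : f ∈ P.comap (algebraMap R K) := this ▸ hfm
    exact hfP 1 (by rw [pow_one]; exact hf')

include hfm in
lemma exists_pow_inv (x : K)
    (hx : ∀ (p : minimalPrimes R)
      (v : HeightOneSpectrum (integralClosure (R ⧸ p.1) (FractionRing (R ⧸ p.1)))),
      1 < v.valuation (FractionRing (R ⧸ p.1)) (ψ K hfp p x)) :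
    ∃ n : ℕ, 0 < n ∧ ∀ k : ℕ, 0 < k → ∃ b ∈ IsLocalRing.maximalIdeal R,
      x ^ (n * k) * algebraMap R K b = 1 := by
  classical
  haveI : Finite (minimalPrimes R) := (minimalPrimes.finite_of_isNoetherianRing R).to_subtype
  haveI : Fintype (minimalPrimes R) := Fintype.ofFinite _
  choose mp hmp0 hmp using fun p : minimalPrimes R =>
    SL1.exists_pos_pow_mem_range (not_isField_quot hfm hfp p) (ψ K hfp p x) (hx p)
  let n₁ := ∏ p, mp p
  have hn₁ : 0 < n₁ := Finset.prod_pos fun p _ => hmp0 p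
  have hne : ∀ p, ψ K hfp p x ≠ 0 := by
    intro p h0
    have hnf := SL1.not_isField_integralClosure (K := FractionRing (R ⧸ p.1))
      (not_isField_quot hfm hfp p)
    obtain ⟨M, hM⟩ := Ideal.exists_maximal (integralClosure (R ⧸ p.1) (FractionRing (R ⧸ p.1)))
    have hM0 : M ≠ ⊥ := by
      rintro rfl
      exact hnf (Ring.isField_iff_maximal_bot.2 hM)
    have := hx p ⟨M, hM.isPrime, hM0⟩
    rw [h0, map_zero] at this
    exact not_lt.2 zero_le' this
  have hc : ∀ p : minimalPrimes R, ∃ c ∈ IsLocalRing.maximalIdeal R,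
      gp p c = ((ψ K hfp p x)⁻¹) ^ n₁ := by
    intro p
    obtain ⟨k, hk⟩ : mp p ∣ n₁ := Finset.dvd_prod_of_mem mp (Finset.mem_univ p)
    have hkpos : 0 < k := by
      rcases Nat.eq_zero_or_pos k with h | h
      · rw [h, mul_zero] at hk; omega
      · exact h
    obtain ⟨b, hb, hbJ⟩ := hmp p k hkpos
    obtain ⟨c, rfl⟩ := Ideal.Quotient.mk_surjective b
    refine ⟨c, ?_, by rw [hk]; exact hb⟩
    rw [IsLocalRing.jacobson_eq_maximalIdeal ⊥ bot_ne_top] at hbJ
    by_contra hcm
    have hu : IsUnit c := by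
      rwa [IsLocalRing.mem_maximalIdeal, mem_nonunits_iff, not_not] at hcm
    exact (IsLocalRing.mem_maximalIdeal _).1 hbJ (hu.map _)
  choose c hcm hc using hc
  have hxu : IsUnit x := by
    by_contra hnu
    obtain ⟨P, hP, hxP⟩ := exists_max_ideal_of_mem_nonunits hnu
    haveI := hP.isPrime
    obtain ⟨p, hp⟩ := ker_ψ_le K hfm hfp P
    have h1 : x ^ n₁ * algebraMap R K (c p) - 1 ∈ RingHom.ker (ψ K hfp p) := by
      rw [RingHom.mem_ker, map_sub, map_mul, map_pow, ψ_algebraMap, hc p, map_one, inv_pow,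
        mul_inv_cancel₀ (pow_ne_zero _ (hne p)), sub_self]
    have h2 := hp h1
    have h3 : x ^ n₁ * algebraMap R K (c p) ∈ P :=
      Ideal.mul_mem_right _ _ (Ideal.pow_mem_of_mem _ hxP _ hn₁)
    have : (1 : K) ∈ P := by
      have := Ideal.sub_mem _ h3 h2
      rwa [sub_sub_cancel] at this
    exact hP.ne_top ((Ideal.eq_top_iff_one _).2 this)
  obtain ⟨y, hxy⟩ := hxu.exists_right_inv
  set g := y ^ n₁ with hg
  have hxg : x ^ n₁ * g = 1 := by rw [hg, ← mul_pow, hxy, one_pow]
  have hgp : ∀ p, g - algebraMap R K (c p) ∈ RingHom.ker (ψ K hfp p) := by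
    intro p
    rw [RingHom.mem_ker, map_sub, ψ_algebraMap, hc p, sub_eq_zero]
    have : ψ K hfp p x ^ n₁ * ψ K hfp p g = 1 := by rw [← map_pow, ← map_mul, hxg, map_one]
    rw [inv_pow]
    exact eq_inv_of_mul_eq_one_right this
  let ν : K := ∏ p, (g - algebraMap R K (c p))
  have hν : IsNilpotent ν := by
    rw [← mem_nilradical, nilradical_eq_sInf, Ideal.mem_sInf]
    intro P hP
    haveI : P.IsPrime := hP
    obtain ⟨p, hp⟩ := ker_ψ_le K hfm hfp P
    exact Ideal.mem_of_dvd _ (Finset.dvd_prod_of_mem _ (Finset.mem_univ p)) (hp (hgp p))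
  obtain ⟨e, he⟩ := hν
  let Q : Polynomial R := (∏ p : minimalPrimes R, (Polynomial.X - Polynomial.C (c p))) ^ e
  have hQm : Q.Monic :=
    (Polynomial.monic_prod_of_monic _ _ fun p _ => Polynomial.monic_X_sub_C _).pow e
  have hQg : Polynomial.aeval g Q = 0 := by
    simp only [Q, map_pow, map_prod, map_sub, Polynomial.aeval_X, Polynomial.aeval_C]
    exact he
  have hint : IsIntegral R g := ⟨Q, hQm, hQg⟩
  let S := Algebra.adjoin R ({g} : Set K)
  have hfg : S.toSubmodule.FG := hint.fg_adjoin_singleton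
  let gS : S := ⟨g, Algebra.subset_adjoin (Set.mem_singleton g)⟩
  obtain ⟨G, hG⟩ := hfg
  obtain ⟨bN, hN⟩ :=
    IsLocalization.exist_integer_multiples_of_finset (Submonoid.powers f) G
  obtain ⟨N, hNb⟩ := bN.2
  have hNS' : ∀ s ∈ Submodule.span R (G : Set K),
      ∃ r : R, algebraMap R K r = algebraMap R K (f ^ N) * s := by
    intro s hs'
    induction hs' using Submodule.span_induction with
    | mem z hz =>
      obtain ⟨r, hr⟩ := hN z hz
      have hb' : (bN : R) = f ^ N := hNb.symm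
      exact ⟨r, by rw [hr, Algebra.smul_def, hb']⟩
    | zero => exact ⟨0, by simp⟩
    | add a b _ _ ha hb =>
      obtain ⟨r, hr⟩ := ha
      obtain ⟨r', hr'⟩ := hb
      exact ⟨r + r', by rw [map_add, hr, hr', mul_add]⟩
    | smul t a _ ha =>
      obtain ⟨r, hr⟩ := ha
      exact ⟨t * r, by rw [map_mul, hr, Algebra.smul_def]; ring⟩
  have hNS : ∀ s ∈ S, ∃ r : R, algebraMap R K r = algebraMap R K (f ^ N) * s := by
    intro s hs
    exact hNS' s (by rw [hG]; exact hs)
  have hrad : IsLocalRing.maximalIdeal R ≤ (Ideal.span {f}).radical := by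
    rw [Ideal.radical_eq_sInf]
    refine le_sInf fun J hJ => ?_
    have hfJ : f ∈ J := hJ.1 (Ideal.mem_span_singleton_self f)
    rcases Ring.krullDimLE_one_iff.mp ‹_› J hJ.2 with h | h
    · exact absurd hfJ (hfp J h)
    · exact (IsLocalRing.eq_maximalIdeal h).ge
  obtain ⟨t, ht⟩ := Ideal.exists_radical_pow_le_of_fg (Ideal.span {f}) (IsNoetherian.noetherian _)
  have hmt : IsLocalRing.maximalIdeal R ^ t ≤ Ideal.span {f} :=
    (Ideal.pow_right_mono hrad t).trans ht
  let I : Ideal S := (IsLocalRing.maximalIdeal R).map (algebraMap R S)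
  let d := Fintype.card (minimalPrimes R) * e
  have hd : gS ^ d ∈ I := by
    have h0 : (∏ p : minimalPrimes R, (gS - algebraMap R S (c p))) ^ e = 0 := by
      apply Subtype.ext
      have : ((∏ p : minimalPrimes R, (gS - algebraMap R S (c p))) ^ e : S).1 = ν ^ e := by
        simp only [ν, gS]
        push_cast
        rfl
      rw [this, he]
      rfl
    have h1 : Ideal.Quotient.mk I ((∏ p, (gS - algebraMap R S (c p))) ^ e) =
        Ideal.Quotient.mk I (gS ^ d) := by
      rw [map_pow, map_prod]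
      have : ∀ p : minimalPrimes R, Ideal.Quotient.mk I (gS - algebraMap R S (c p)) =
          Ideal.Quotient.mk I gS := fun p => by
        rw [map_sub, Ideal.Quotient.eq_zero_iff_mem.2 (Ideal.mem_map_of_mem _ (hcm p)), sub_zero]
      simp only [this, Finset.prod_const, Finset.card_univ, ← pow_mul, map_pow, d]
    rw [h0, map_zero] at h1
    exact Ideal.Quotient.eq_zero_iff_mem.1 h1.symm
  let k₀ := (t + 1) * (N + 1)
  have hI : gS ^ ((d + 1) * k₀) ∈ Ideal.span {algebraMap R S (f ^ (N + 1))} := by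
    have h1 : gS ^ (d + 1) ∈ I := by rw [pow_succ]; exact Ideal.mul_mem_right _ _ hd
    have h2 : gS ^ ((d + 1) * k₀) ∈ I ^ k₀ := by
      have h2' : (gS ^ (d + 1)) ^ k₀ ∈ I ^ k₀ := Ideal.pow_mem_pow h1 k₀
      rwa [← pow_mul] at h2' 
    have h3 : I ^ k₀ ≤ Ideal.span {algebraMap R S (f ^ (N + 1))} := by
      rw [← Ideal.map_pow, ← Set.image_singleton, ← Ideal.map_span]
      apply Ideal.map_mono
      calc IsLocalRing.maximalIdeal R ^ ((t + 1) * (N + 1))
          = (IsLocalRing.maximalIdeal R ^ (t + 1)) ^ (N + 1) := pow_mul _ _ _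
        _ ≤ (Ideal.span {f}) ^ (N + 1) :=
            Ideal.pow_right_mono ((Ideal.pow_le_pow_right (Nat.le_succ t)).trans hmt) _
        _ = Ideal.span {f ^ (N + 1)} := Ideal.span_singleton_pow f (N + 1)
    exact h3 h2
  obtain ⟨s, hs⟩ := Ideal.mem_span_singleton'.1 hI
  obtain ⟨r, hr⟩ := hNS s.1 s.2
  have hfin : g ^ ((d + 1) * k₀) = algebraMap R K (f * r) := by
    have h1 := congrArg Subtype.val hs
    have h2 : (gS ^ ((d + 1) * k₀) : S).1 = g ^ ((d + 1) * k₀) := by
      simp only [gS]; push_cast; rfl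
    have h3 : (s * algebraMap R S (f ^ (N + 1)) : S).1 = s.1 * algebraMap R K (f ^ (N + 1)) := rfl
    rw [h2, h3] at h1
    rw [← h1, map_mul, hr, pow_succ, map_mul]
    ring
  refine ⟨n₁ * ((d + 1) * k₀), by positivity, fun k hk =>
    ⟨(f * r) ^ k, Ideal.pow_mem_of_mem _ (Ideal.mul_mem_right _ _ hfm) k hk, ?_⟩⟩
  rw [map_pow, ← hfin]
  calc x ^ (n₁ * ((d + 1) * k₀) * k) * (g ^ ((d + 1) * k₀)) ^ k
      = (x ^ n₁ * g) ^ ((d + 1) * k₀ * k) := by
        rw [mul_pow, ← pow_mul, ← pow_mul, ← pow_mul, mul_assoc]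
    _ = 1 := by rw [hxg, one_pow]

end Local

end Groth.Agent.H5.Pole
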