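import Mathlib
import Groth.Agent.Lib.Helper5.Pole.A

/-!
# Pole functions: simultaneous version and the non-local reduction
-/

set_option autoImplicit false
universe u
open Function IsDedekindDomain

namespace Groth.Agent.H5.Pole

open Groth.Agent.H8

section Local

variable (R : Type u) [CommRing R] [IsLocalRing R] [IsNoetherianRing R] [Ring.KrullDimLE 1 R]
  (K : Type u) [CommRing K] [Algebra R K] (f : R) [IsLocalization.Away f K]

theorem exists_valuations (hfm : f ∈ IsLocalRing.maximalIdeal R)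
    (hfp : ∀ p ∈ minimalPrimes R, f ∉ p) :
    ∃ (J : Type u) (_ : Finite J) (W : J → Valuation K (WithZero (Multiplicative ℤ))),
      (∀ {A : Type u} [CommRing A] (φ : A →+* K),
        φ.range ⊔ (algebraMap R K).range = ⊤ → ∀ j, ∃ a, 1 < W j (φ a)) ∧
      ∀ x : K, (∀ j, 1 < W j x) → ∃ n : ℕ, 0 < n ∧ ∀ k : ℕ, 0 < k →
        ∃ b ∈ IsLocalRing.maximalIdeal R, x ^ (n * k) * algebraMap R K b = 1 := by
  haveI : Finite (minimalPrimes R) := (minimalPrimes.finite_of_isNoetherianRing R).to_subtype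
  refine ⟨Σ p : minimalPrimes R,
    HeightOneSpectrum (integralClosure (R ⧸ p.1) (FractionRing (R ⧸ p.1))), inferInstance,
    fun j => (j.2.valuation (FractionRing (R ⧸ j.1.1))).comap (ψ K hfp j.1), ?_, ?_⟩
  · intro A _ φ hgen j
    obtain ⟨a, ha⟩ := exists_one_lt K hfm hfp j.1 j.2 φ hgen
    exact ⟨a, by rw [Valuation.comap_apply]; exact ha⟩
  · intro x hx
    exact exists_pow_inv K hfm hfp x fun p v => by
      have := hx ⟨p, v⟩
      rwa [Valuation.comap_apply] at this

end Local

theorem exists_pole_local {A : Type u} [CommRing A] {ι : Type*} [Finite ι] (R : ι → Type u)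
    [∀ i, CommRing (R i)] [∀ i, IsLocalRing (R i)] [∀ i, IsNoetherianRing (R i)]
    [∀ i, Ring.KrullDimLE 1 (R i)] (K : ι → Type u) [∀ i, CommRing (K i)]
    [∀ i, Algebra (R i) (K i)] (f : ∀ i, R i) [∀ i, IsLocalization.Away (f i) (K i)]
    (hfm : ∀ i, f i ∈ IsLocalRing.maximalIdeal (R i))
    (hfp : ∀ i, ∀ p ∈ minimalPrimes (R i), f i ∉ p) (φ : ∀ i, A →+* K i)
    (hgen : ∀ i, (φ i).range ⊔ (algebraMap (R i) (K i)).range = ⊤) :
    ∃ a : A, ∀ i, ∃ b ∈ IsLocalRing.maximalIdeal (R i),
      φ i a * algebraMap (R i) (K i) b = 1 := by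
  classical
  choose J hJ W hW1 hW2 using fun i => exists_valuations (R i) (K i) (f i) (hfm i) (hfp i)
  haveI := hJ
  haveI : Fintype (Σ i, J i) := Fintype.ofFinite _
  let w : (Σ i, J i) → Valuation A (WithZero (Multiplicative ℤ)) :=
    fun j => (W j.1 j.2).comap (φ j.1)
  obtain ⟨a, ha⟩ := exists_forall_one_lt_valuation w Finset.univ
    (fun j _ => hW1 j.1 (φ j.1) (hgen j.1) j.2)
  choose n hn0 hn using fun i => hW2 i (φ i a) (fun j => ha ⟨i, j⟩ (Finset.mem_univ _))
  haveI : Fintype ι := Fintype.ofFinite ι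
  refine ⟨a ^ (∏ i, n i), fun i => ?_⟩
  obtain ⟨k, hk⟩ : n i ∣ ∏ i, n i := Finset.dvd_prod_of_mem n (Finset.mem_univ i)
  have hpos : 0 < ∏ i, n i := Finset.prod_pos fun i _ => hn0 i
  have hkpos : 0 < k := by
    rcases Nat.eq_zero_or_pos k with h | h
    · rw [h, mul_zero] at hk; omega
    · exact h
  obtain ⟨b, hb, hb1⟩ := hn i k hkpos
  exact ⟨b, hb, by rw [map_pow, hk]; exact hb1⟩

section NonLocal

variable {B : Type u} [CommRing B] [IsNoetherianRing B] [Ring.KrullDimLE 1 B] (m : Ideal B)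
  [m.IsMaximal] (K : Type u) [CommRing K] [Algebra B K] (f : B) [IsLocalization.Away f K]

instance krullDimLE_atPrime : Ring.KrullDimLE 1 (Localization.AtPrime m) := by
  rw [Ring.krullDimLE_iff, IsLocalization.AtPrime.ringKrullDim_eq_height m]
  exact Ideal.height_le_ringKrullDim_of_isPrime.trans (Ring.krullDimLE_iff.mp ‹_›)

/-- the localisation of `K = B_f` at `m` -/
abbrev K' : Type u := Localization.Away (algebraMap B (Localization.AtPrime m) f)

/-- the map `B_f → (B_m)_f` -/
noncomputable def ψ' : K →+* K' m f :=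
  IsLocalization.Away.map K (K' m f) (algebraMap B (Localization.AtPrime m)) f

lemma ψ'_algebraMap (b : B) : ψ' m K f (algebraMap B K b) =
    algebraMap (Localization.AtPrime m) (K' m f) (algebraMap B (Localization.AtPrime m) b) := by
  unfold ψ' IsLocalization.Away.map
  exact IsLocalization.map_eq _ b

variable {m f}

lemma f_mem_maximalIdeal (hfm : f ∈ m) :
    algebraMap B (Localization.AtPrime m) f ∈
      IsLocalRing.maximalIdeal (Localization.AtPrime m) :=
  (IsLocalization.AtPrime.to_map_mem_maximal_iff _ m f).2 hfm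

lemma f_notMem_minimalPrimes (hf : ∀ q : Ideal B, q.IsPrime → f ∈ q → q = m)
    (hlt : ∃ p : Ideal B, p.IsPrime ∧ p < m) :
    ∀ p' ∈ minimalPrimes (Localization.AtPrime m),
      algebraMap B (Localization.AtPrime m) f ∉ p' := by
  intro p' hp' hfp'
  haveI : p'.IsPrime := hp'.1.1
  have h1 : p'.under B = m :=
    hf _ (Ideal.IsPrime.under B p') hfp'
  have h2 : p' = IsLocalRing.maximalIdeal (Localization.AtPrime m) := by
    rw [← IsLocalization.map_under m.primeCompl (Localization.AtPrime m) p', h1,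
      Localization.AtPrime.map_eq_maximalIdeal]
  obtain ⟨p, hp, hpm⟩ := hlt
  have hdisj : Disjoint (m.primeCompl : Set B) p := by
    rw [Set.disjoint_left]
    intro b hb hbp
    exact hb (hpm.le hbp)
  have hp'' : (p.map (algebraMap B (Localization.AtPrime m))).IsPrime :=
    IsLocalization.isPrime_of_isPrime_disjoint m.primeCompl _ p hp hdisj
  have hle : p.map (algebraMap B (Localization.AtPrime m)) ≤ p' := by
    rw [h2]; exact IsLocalRing.le_maximalIdeal hp''.ne_top
  have hge : p' ≤ p.map (algebraMap B (Localization.AtPrime m)) :=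
    hp'.2 ⟨hp'', bot_le⟩ hle
  have heq : p.map (algebraMap B (Localization.AtPrime m)) = p' := le_antisymm hle hge
  have : p = m := by
    rw [← IsLocalization.under_map_of_isPrime_disjoint m.primeCompl (Localization.AtPrime m) hp
      hdisj, heq, h1]
  exact hpm.ne this

variable (m f) in
lemma hgen' {A : Type*} [CommRing A] (φ : A →+* K)
    (hgen : φ.range ⊔ (algebraMap B K).range = ⊤) :
    ((ψ' m K f).comp φ).range ⊔ (algebraMap (Localization.AtPrime m) (K' m f)).range = ⊤ := by
  rw [eq_top_iff]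
  have hψ : (ψ' m K f).range ≤
      ((ψ' m K f).comp φ).range ⊔ (algebraMap (Localization.AtPrime m) (K' m f)).range := by
    rw [RingHom.range_eq_map, ← hgen, Subring.map_sup]
    refine sup_le ?_ ?_
    · rintro _ ⟨_, ⟨a, rfl⟩, rfl⟩
      exact SetLike.le_def.1 le_sup_left ⟨a, rfl⟩
    · rintro _ ⟨_, ⟨b, rfl⟩, rfl⟩
      exact SetLike.le_def.1 le_sup_right ⟨_, (ψ'_algebraMap m K f b).symm⟩
  intro κ _
  obtain ⟨n, r, hr⟩ := IsLocalization.Away.surj (algebraMap B (Localization.AtPrime m) f) κ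
  have h1 : ψ' m K f (IsLocalization.Away.invSelf f) *
      algebraMap (Localization.AtPrime m) (K' m f) (algebraMap B (Localization.AtPrime m) f) = 1 := by
    rw [← ψ'_algebraMap m K f, ← map_mul, mul_comm, IsLocalization.Away.mul_invSelf, map_one]
  have h2 : κ = algebraMap (Localization.AtPrime m) (K' m f) r *
      ψ' m K f (IsLocalization.Away.invSelf f) ^ n := by
    rw [← hr, mul_assoc, ← mul_pow, mul_comm (algebraMap _ _ _), h1, one_pow, mul_one]
  rw [h2]
  exact Subring.mul_mem _ (SetLike.le_def.1 le_sup_right ⟨r, rfl⟩)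
    (Subring.pow_mem _ (hψ ⟨_, rfl⟩) n)

variable (m f) in
lemma exists_mul_eq_of_ψ'_eq (y y' : K) (h : ψ' m K f y = ψ' m K f y') :
    ∃ t ∉ m, algebraMap B K t * y = algebraMap B K t * y' := by
  obtain ⟨n, a, ha⟩ := IsLocalization.Away.surj f (y - y')
  have h1 : algebraMap (Localization.AtPrime m) (K' m f)
      (algebraMap B (Localization.AtPrime m) a) = 0 := by
    rw [← ψ'_algebraMap m K f, ← ha, map_mul, map_sub, h, sub_self, zero_mul]
  obtain ⟨⟨_, k, rfl⟩, hc⟩ := (IsLocalization.map_eq_zero_iff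
    (Submonoid.powers (algebraMap B (Localization.AtPrime m) f)) (K' m f) _).1 h1
  have h2 : algebraMap B (Localization.AtPrime m) (f ^ k * a) = 0 := by
    rw [map_mul, map_pow]; exact hc
  obtain ⟨⟨t, ht⟩, htc⟩ := (IsLocalization.map_eq_zero_iff m.primeCompl
    (Localization.AtPrime m) _).1 h2
  refine ⟨t, ht, ?_⟩
  have hfu : IsUnit (algebraMap B K f) := IsLocalization.Away.algebraMap_isUnit f
  have h3 : algebraMap B K t * (y - y') * (algebraMap B K f ^ (k + n)) = 0 := by
    have := congrArg (algebraMap B K) htc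
    rw [map_zero, map_mul, map_mul, map_pow] at this
    calc algebraMap B K t * (y - y') * (algebraMap B K f ^ (k + n))
        = algebraMap B K t * (algebraMap B K f ^ k * ((y - y') * algebraMap B K f ^ n)) := by
          rw [pow_add]; ring
      _ = 0 := by rw [ha]; exact this
  have h4 := (hfu.pow (k + n)).mul_left_eq_zero.1 h3
  rw [mul_sub, sub_eq_zero] at h4
  exact h4

end NonLocal

/-- **Pole functions**: `B i` Noetherian of dimension `≤ 1`, `m i` a non-minimal maximal ideal
with `V(f i) = {m i}`, `K i = (B i)_{f i}`, and a ring `A` mapping to every `K i` such that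
`A` and `B i` generate `K i`.  Then some `a : A` is, in every `K i`, of the form `h / b` with
`b ∈ m i` and `h ∉ m i`. -/
theorem exists_pole {A : Type u} [CommRing A] {ι : Type*} [Finite ι] (B : ι → Type u)
    [∀ i, CommRing (B i)] [∀ i, IsNoetherianRing (B i)] [∀ i, Ring.KrullDimLE 1 (B i)]
    (m : ∀ i, Ideal (B i)) [∀ i, (m i).IsMaximal] (K : ι → Type u) [∀ i, CommRing (K i)]
    [∀ i, Algebra (B i) (K i)] (f : ∀ i, B i) [∀ i, IsLocalization.Away (f i) (K i)]
    (hf : ∀ i (q : Ideal (B i)), q.IsPrime → f i ∈ q → q = m i) (hfm : ∀ i, f i ∈ m i)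
    (hlt : ∀ i, ∃ p : Ideal (B i), p.IsPrime ∧ p < m i) (φ : ∀ i, A →+* K i)
    (hgen : ∀ i, (φ i).range ⊔ (algebraMap (B i) (K i)).range = ⊤) :
    ∃ a : A, ∀ i, ∃ b ∈ m i, ∃ h ∉ m i,
      φ i a * algebraMap (B i) (K i) b = algebraMap (B i) (K i) h := by
  obtain ⟨a, ha⟩ := exists_pole_local (A := A) (fun i => Localization.AtPrime (m i))
    (fun i => K' (m i) (f i)) (fun i => algebraMap (B i) (Localization.AtPrime (m i)) (f i))
    (fun i => f_mem_maximalIdeal (hfm i)) (fun i => f_notMem_minimalPrimes (hf i) (hlt i))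
    (fun i => (ψ' (m i) (K i) (f i)).comp (φ i)) (fun i => hgen' (m i) (K i) (f i) (φ i) (hgen i))
  refine ⟨a, fun i => ?_⟩
  obtain ⟨b', hb', hab⟩ := ha i
  obtain ⟨β, s, rfl⟩ := IsLocalization.exists_mk'_eq (m i).primeCompl b'
  rw [IsLocalization.AtPrime.mk'_mem_maximal_iff (Localization.AtPrime (m i)) (m i)] at hb'
  have h1 : ψ' (m i) (K i) (f i) (φ i a * algebraMap (B i) (K i) β) =
      ψ' (m i) (K i) (f i) (algebraMap (B i) (K i) (s : B i)) := by
    rw [map_mul, ψ'_algebraMap, ψ'_algebraMap, ← IsLocalization.mk'_spec (Localization.AtPrime (m i)) β s,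
      map_mul, ← mul_assoc]
    rw [RingHom.comp_apply] at hab
    rw [hab, one_mul]
  obtain ⟨t, ht, hteq⟩ := exists_mul_eq_of_ψ'_eq (m i) (K i) (f i) _ _ h1
  refine ⟨t * β, Ideal.mul_mem_left _ _ hb', t * s, ?_, ?_⟩
  · intro hmem
    rcases (Ideal.IsMaximal.isPrime (inferInstance : (m i).IsMaximal)).mem_or_mem hmem with h | h
    · exact ht h
    · exact s.2 h
  · rw [map_mul, map_mul, ← hteq]; ring

end Groth.Agent.H5.Pole
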