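import Mathlib
import Groth.Agent.Lib.Helper5.Curve3.TwoCover

/-!
# Two sections of the invertible module attached to a pair of inverse functions on a two-set cover
-/

set_option autoImplicit false
universe u
open CategoryTheory CategoryTheory.Limits AlgebraicGeometry TopologicalSpace Opposite

namespace Groth.Agent.H5.Pole

open Groth.Agent.LD Groth.Agent.LD.QC Groth.Agent.H5.Glue Groth.Agent.H5.Curve3

variable {X : Scheme.{u}}

/-- the local coefficients of the second section. -/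
noncomputable def b2 (U₀ V₀ : X.Opens) (a : Γ(X, U₀)) : ∀ i : ULift.{u} Bool, Γ(X, W2 U₀ V₀ i)
  | ⟨false⟩ => a
  | ⟨true⟩ => 1

theorem exists_invertible_two_sections_of_two_cover (U₀ V₀ : X.Opens) (hcov : U₀ ⊔ V₀ = ⊤)
    (a : Γ(X, U₀)) (β : Γ(X, V₀))
    (hab : res (inf_le_left : U₀ ⊓ V₀ ≤ U₀) a * res (inf_le_right : U₀ ⊓ V₀ ≤ V₀) β = 1) :
    ∃ (L : X.Modules) (ts tt : Γ(L, ⊤)), PicF.IsInvertible L ∧
      U₀ ≤ CohB1.genLocus L (homOfSection L ts) ∧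
      CohB1.genLocus L (homOfSection L ts) ⊓ V₀ = X.basicOpen β ∧
      V₀ ≤ CohB1.genLocus L (homOfSection L tt) := by
  have huv : res (inf_le_right : U₀ ⊓ V₀ ≤ V₀) β * res (inf_le_left : U₀ ⊓ V₀ ≤ U₀) a = 1 := by
    rw [mul_comm]; exact hab
  have hcoc := isCocycle_η2 U₀ V₀ _ _ huv
  have hunit : ∀ i, IsUnit (η2 U₀ V₀ (res (inf_le_right : U₀ ⊓ V₀ ≤ V₀) β)
      (res (inf_le_left : U₀ ⊓ V₀ ≤ U₀) a) i i) := by
    rintro ⟨_ | _⟩ <;> exact isUnit_one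
  have hW := iSup_W2 U₀ V₀ hcov
  have hL := isInvertible_glueMod hcoc hunit hW
  have hcompat : ∀ i j, mres _ (inf_le_left : W2 U₀ V₀ i ⊓ W2 U₀ V₀ j ≤ W2 U₀ V₀ i)
      (a2 U₀ V₀ β i • glueGen hcoc i) =
      mres _ (inf_le_right : W2 U₀ V₀ i ⊓ W2 U₀ V₀ j ≤ W2 U₀ V₀ j)
        (a2 U₀ V₀ β j • glueGen hcoc j) := by
    intro i j
    rw [mres_smul, mres_smul]
    have h1 := glueGen_transition hcoc i j
    change mres _ _ (glueGen hcoc i) = _ • mres _ _ (glueGen hcoc j) at h1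
    rw [h1, smul_smul]
    congr 1
    rcases i with ⟨_ | _⟩ <;> rcases j with ⟨_ | _⟩
    · simp [a2, η2]
    · show (res (inf_le_left : U₀ ⊓ V₀ ≤ U₀) (1 : Γ(X, U₀)) *
        res (inf_le_right : U₀ ⊓ V₀ ≤ V₀) β : Γ(X, U₀ ⊓ V₀)) =
          res (inf_le_right : U₀ ⊓ V₀ ≤ V₀) β
      rw [map_one, one_mul]
    · show (res (inf_le_left : V₀ ⊓ U₀ ≤ V₀) β * res (le_of_eq (inf_comm V₀ U₀))
        (res (inf_le_left : U₀ ⊓ V₀ ≤ U₀) a) : Γ(X, V₀ ⊓ U₀)) =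
          res (inf_le_right : V₀ ⊓ U₀ ≤ U₀) (1 : Γ(X, U₀))
      have : res (inf_le_left : V₀ ⊓ U₀ ≤ V₀) β = res (le_of_eq (inf_comm V₀ U₀))
          (res (inf_le_right : U₀ ⊓ V₀ ≤ V₀) β) := (Glue.res_res _ _ β).symm
      rw [this, ← map_mul, huv, map_one, map_one]
    · simp [a2, η2]
  have hcompat' : ∀ i j, mres _ (inf_le_left : W2 U₀ V₀ i ⊓ W2 U₀ V₀ j ≤ W2 U₀ V₀ i)
      (b2 U₀ V₀ a i • glueGen hcoc i) =
      mres _ (inf_le_right : W2 U₀ V₀ i ⊓ W2 U₀ V₀ j ≤ W2 U₀ V₀ j)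
        (b2 U₀ V₀ a j • glueGen hcoc j) := by
    intro i j
    rw [mres_smul, mres_smul]
    have h1 := glueGen_transition hcoc i j
    change mres _ _ (glueGen hcoc i) = _ • mres _ _ (glueGen hcoc j) at h1
    rw [h1, smul_smul]
    congr 1
    rcases i with ⟨_ | _⟩ <;> rcases j with ⟨_ | _⟩
    · simp [b2, η2]
    · show (res (inf_le_left : U₀ ⊓ V₀ ≤ U₀) a *
        res (inf_le_right : U₀ ⊓ V₀ ≤ V₀) β : Γ(X, U₀ ⊓ V₀)) =
          res (inf_le_right : U₀ ⊓ V₀ ≤ V₀) (1 : Γ(X, V₀))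
      rw [hab, map_one]
    · show (res (inf_le_left : V₀ ⊓ U₀ ≤ V₀) (1 : Γ(X, V₀)) * res (le_of_eq (inf_comm V₀ U₀))
        (res (inf_le_left : U₀ ⊓ V₀ ≤ U₀) a) : Γ(X, V₀ ⊓ U₀)) =
          res (inf_le_right : V₀ ⊓ U₀ ≤ U₀) a
      rw [map_one, one_mul, Glue.res_res]
    · simp [b2, η2]
  obtain ⟨ts, hts, -⟩ := existsUnique_glue_sec _ (W2 U₀ V₀) hW
    (fun i => a2 U₀ V₀ β i • glueGen hcoc i) hcompat
  obtain ⟨tt, htt, -⟩ := existsUnique_glue_sec _ (W2 U₀ V₀) hW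
    (fun i => b2 U₀ V₀ a i • glueGen hcoc i) hcompat'
  refine ⟨_, ts, tt, hL, ?_, ?_, ?_⟩
  · have h := genLocus_inf_eq_basicOpen (homOfSection _ ts)
      (isBasisOver_glueGen hcoc hunit ⟨false⟩) (1 : Γ(X, U₀))
      (by rw [val_homOfSection]; exact hts ⟨false⟩)
    have h2 : X.basicOpen (1 : Γ(X, U₀)) = U₀ := X.basicOpen_of_isUnit isUnit_one
    have h' : CohB1.genLocus _ (homOfSection _ ts) ⊓ U₀ = U₀ := h.trans h2
    intro y hy
    have : y ∈ CohB1.genLocus _ (homOfSection _ ts) ⊓ U₀ := by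
      rw [h']; exact hy
    exact this.1
  · exact genLocus_inf_eq_basicOpen (homOfSection _ ts)
      (isBasisOver_glueGen hcoc hunit ⟨true⟩) β (by rw [val_homOfSection]; exact hts ⟨true⟩)
  · have h := genLocus_inf_eq_basicOpen (homOfSection _ tt)
      (isBasisOver_glueGen hcoc hunit ⟨true⟩) (1 : Γ(X, V₀))
      (by rw [val_homOfSection]; exact htt ⟨true⟩)
    have h2 : X.basicOpen (1 : Γ(X, V₀)) = V₀ := X.basicOpen_of_isUnit isUnit_one
    have h' : CohB1.genLocus _ (homOfSection _ tt) ⊓ V₀ = V₀ := h.trans h2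
    intro y hy
    have : y ∈ CohB1.genLocus _ (homOfSection _ tt) ⊓ V₀ := by
      rw [h']; exact hy
    exact this.1

end Groth.Agent.H5.Pole
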