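import Mathlib
import Groth.Agent.Lib.Helper5.Pole.B
import Groth.Agent.Lib.Helper5.Pole.D
import Groth.Agent.Lib.Helper5.Pole.E
import Groth.Agent.Lib.Lead.QC.InvBasis

/-!
# Pole functions on one-dimensional Noetherian separated schemes: the geometric input
-/

set_option autoImplicit false
universe u
open CategoryTheory CategoryTheory.Limits AlgebraicGeometry TopologicalSpace Opposite

namespace Groth.Agent.H5.Pole

open Groth.Agent.LD Groth.Agent.LD.QC Groth.Agent.H5.Glue Groth.Agent.H4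

variable {X : Scheme.{u}}

section OnePoint

variable {V : X.Opens} (hV : IsAffineOpen V) (f : Γ(X, V)) (U : X.Opens)
  (hfU : X.basicOpen f = V ⊓ U) (z : X) (hzV : z ∈ V) (hzU : z ∉ U)
  (hVz : ∀ y ∈ V, y ∉ U → y = z)

include hfU hVz in
lemma eq_primeIdealOf_of_mem (q : Ideal Γ(X, V)) (hq : q.IsPrime) (hfq : f ∈ q) :
    q = (hV.primeIdealOf ⟨z, hzV⟩).asIdeal := by
  obtain ⟨hy, hyq⟩ := primeIdealOf_fromSpec hV ⟨q, hq⟩
  have h1 : hV.fromSpec ⟨q, hq⟩ ∉ X.basicOpen f := by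
    rw [PicDim1.mem_basicOpen_iff hV f _ hy, hyq]
    exact not_not.2 hfq
  have h2 : hV.fromSpec ⟨q, hq⟩ ∉ U := fun h => h1 (hfU ▸ ⟨hy, h⟩)
  have h3 := hVz _ hy h2
  have h4 : (⟨hV.fromSpec ⟨q, hq⟩, hy⟩ : V) = ⟨z, hzV⟩ := Subtype.ext h3
  rw [← h4, hyq]

include hfU hzU in
lemma mem_primeIdealOf : f ∈ (hV.primeIdealOf ⟨z, hzV⟩).asIdeal := by
  by_contra h
  have h1 : z ∈ X.basicOpen f := (PicDim1.mem_basicOpen_iff hV f z hzV).2 h
  rw [hfU] at h1
  exact hzU h1.2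

lemma exists_lt_primeIdealOf (z' : X) (hsp : z' ⤳ z) (hne : z' ≠ z) :
    ∃ p : Ideal Γ(X, V), p.IsPrime ∧ p < (hV.primeIdealOf ⟨z, hzV⟩).asIdeal := by
  have hz'V : z' ∈ V := hsp.mem_open V.2 hzV
  refine ⟨(hV.primeIdealOf ⟨z', hz'V⟩).asIdeal, (hV.primeIdealOf ⟨z', hz'V⟩).isPrime, ?_⟩
  have h1 : hV.fromSpec (hV.primeIdealOf ⟨z', hz'V⟩) ⤳ hV.fromSpec (hV.primeIdealOf ⟨z, hzV⟩) := by
    rw [hV.fromSpec_primeIdealOf, hV.fromSpec_primeIdealOf]
    exact hsp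
  have h2 := hV.fromSpec.isOpenEmbedding.isInducing.specializes_iff.1 h1
  have hle : (hV.primeIdealOf ⟨z', hz'V⟩).asIdeal ≤ (hV.primeIdealOf ⟨z, hzV⟩).asIdeal :=
    (PrimeSpectrum.le_iff_specializes (R := Γ(X, V)) _ _).2 h2
  refine lt_of_le_of_ne hle fun heq => hne ?_
  exact PicDim1.eq_of_primeIdealOf_eq hV z' z hz'V hzV heq

end OnePoint

lemma res_range_sup_eq_top' [X.IsSeparated] {U V W : X.Opens} (hU : IsAffineOpen U)
    (hV : IsAffineOpen V) (hW : W = U ⊓ V) (h1 : W ≤ U) (h2 : W ≤ V) :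
    (res h1).range ⊔ (res h2).range = ⊤ := by
  subst hW
  exact res_range_sup_eq_top hU hV

/-- from the algebraic pole datum at one point to a local inverse of `a` vanishing at `z`. -/
lemma exists_local_inverse {V : X.Opens} (hV : IsAffineOpen V) (f : Γ(X, V)) (U : X.Opens)
    (hfU : X.basicOpen f = V ⊓ U) (z : X) (hzV : z ∈ V) (a : Γ(X, U)) (b h : Γ(X, V))
    (hb : b ∈ (hV.primeIdealOf ⟨z, hzV⟩).asIdeal) (hh : h ∉ (hV.primeIdealOf ⟨z, hzV⟩).asIdeal)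
    (hab : res (hfU.le.trans inf_le_right : X.basicOpen f ≤ U) a * res (X.basicOpen_le f) b =
      res (X.basicOpen_le f) h) :
    ∃ (V' : X.Opens) (_ : V' ≤ V) (_ : z ∈ V') (β : Γ(X, V')), z ∉ X.basicOpen β ∧
      res (inf_le_left : U ⊓ V' ≤ U) a * res (inf_le_right : U ⊓ V' ≤ V') β = 1 := by
  have hle : X.basicOpen h ≤ V := X.basicOpen_le h
  have hzh : z ∈ X.basicOpen h := (PicDim1.mem_basicOpen_iff hV h z hzV).2 hh
  have hu : IsUnit (res hle h) := isUnit_res_of_le_basicOpen h hle le_rfl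
  obtain ⟨w, hw⟩ := hu
  refine ⟨X.basicOpen h, hle, hzh, res hle b * ((w⁻¹ : (Γ(X, X.basicOpen h))ˣ) : _), ?_, ?_⟩
  · intro hz
    rw [Scheme.basicOpen_mul] at hz
    have h1 : X.basicOpen (res hle b) = X.basicOpen h ⊓ X.basicOpen b :=
      Scheme.basicOpen_res _ _ _
    have h2 : z ∈ X.basicOpen b := by
      have := hz.1
      rw [h1] at this
      exact this.2
    exact (PicDim1.mem_basicOpen_iff hV b z hzV).1 h2 hb
  · have hT : U ⊓ X.basicOpen h ≤ X.basicOpen f := by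
      rw [hfU]
      exact fun y hy => ⟨hle hy.2, hy.1⟩
    have h1 := congrArg (res hT) hab
    rw [map_mul, Glue.res_res, Glue.res_res, Glue.res_res] at h1
    have h2 : res (inf_le_right : U ⊓ X.basicOpen h ≤ X.basicOpen h) (res hle h) *
        res (inf_le_right : U ⊓ X.basicOpen h ≤ X.basicOpen h)
          ((w⁻¹ : (Γ(X, X.basicOpen h))ˣ) : _) = 1 := by
      rw [← map_mul, ← hw, Units.mul_inv, map_one]
    rw [Glue.res_res] at h2
    rw [map_mul, Glue.res_res, ← mul_assoc, h1, h2]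

end Groth.Agent.H5.Pole
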