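import Mathlib
import Groth.Agent.Lib.Helper5.Pole.F
import Groth.Agent.Lib.Helper5.Curve1.F

/-!
# Ample invertible modules on one-dimensional Noetherian separated schemes
-/

set_option autoImplicit false
universe u
open CategoryTheory CategoryTheory.Limits AlgebraicGeometry TopologicalSpace Opposite

namespace Groth.Agent.H5.Pole

open Groth.Agent.LD Groth.Agent.LD.QC Groth.Agent.H5.Glue Groth.Agent.H4 Groth.Agent.H5.Curve1

variable {X : Scheme.{u}}

/-- for a dense affine open `U` of a one-dimensional Noetherian separated scheme there is an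
invertible module with a section whose non-vanishing locus is `U` and another section which
does not vanish at any point outside `U`. -/
theorem exists_invertible_two_sections [IsNoetherian X] [X.IsSeparated]
    (hdim : topologicalKrullDim X ≤ 1) (U : X.Opens) (hU : IsAffineOpen U)
    (hUd : Dense (U : Set X)) :
    ∃ (L : X.Modules) (ts tt : Γ(L, ⊤)), PicF.IsInvertible L ∧
      CohB1.genLocus L (homOfSection L ts) = U ∧
      ∀ x : X, x ∉ U → x ∈ CohB1.genLocus L (homOfSection L tt) := by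
  classical
  obtain ⟨E, hE1, hE2, hE3⟩ := PicDim1.exists_maxpts (Y := X)
  have hgen : ∀ z : X, (∀ x : X, x ⤳ z → x = z) → z ∈ U := fun z hz => hE3 U hUd z (hE2 z hz)
  obtain ⟨hfin, hcl⟩ := PicDim1.finite_closedPts hdim U hgen
  let ι := ((U : Set X)ᶜ : Set X)
  haveI : Finite ι := hfin.to_subtype
  choose V hV hzV f hf using fun i : ι => exists_local_equation hdim U hfin hcl i.1 i.2
  have hfU : ∀ i, X.basicOpen (f i) = V i ⊓ U := fun i => (hf i).1
  have hVz : ∀ i, ∀ y ∈ V i, y ∉ U → y = i.1 := fun i => (hf i).2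
  haveI : ∀ i, IsNoetherianRing Γ(X, V i) := fun i =>
    IsLocallyNoetherian.component_noetherian ⟨V i, hV i⟩
  haveI : ∀ i, Ring.KrullDimLE 1 Γ(X, V i) := fun i => PicDim1.krullDimLE_sections hdim (hV i)
  haveI : ∀ i, ((hV i).primeIdealOf ⟨i.1, hzV i⟩).asIdeal.IsMaximal := fun i =>
    isMaximal_primeIdealOf_of_isClosed (hV i) i.1 (hzV i) (hcl i.1 i.2)
  haveI : ∀ i, IsLocalization.Away (f i) Γ(X, X.basicOpen (f i)) := fun i =>
    (hV i).isLocalization_basicOpen (f i)
  have hlt : ∀ i : ι, ∃ p : Ideal Γ(X, V i), p.IsPrime ∧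
      p < ((hV i).primeIdealOf ⟨i.1, hzV i⟩).asIdeal := by
    intro i
    have h1 : ¬ ∀ x : X, x ⤳ i.1 → x = i.1 := fun h => i.2 (hgen i.1 h)
    push Not at h1
    obtain ⟨z', hsp, hne⟩ := h1
    exact exists_lt_primeIdealOf (hV i) i.1 (hzV i) z' hsp hne
  obtain ⟨a, ha⟩ := exists_pole (A := Γ(X, U)) (fun i : ι => Γ(X, V i))
    (fun i => ((hV i).primeIdealOf ⟨i.1, hzV i⟩).asIdeal)
    (fun i => Γ(X, X.basicOpen (f i))) f
    (fun i q hq hfq => eq_primeIdealOf_of_mem (hV i) (f i) U (hfU i) i.1 (hzV i) (hVz i) q hq hfq)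
    (fun i => mem_primeIdealOf (hV i) (f i) U (hfU i) i.1 (hzV i) i.2)
    hlt
    (fun i => res ((hfU i).le.trans inf_le_right : X.basicOpen (f i) ≤ U))
    (fun i => res_range_sup_eq_top' hU (hV i) ((hfU i).trans (inf_comm _ _)) _ _)
  choose b hb h hh hab using ha
  choose V' hV'V hzV' β hzβ hβ using fun i : ι =>
    exists_local_inverse (hV i) (f i) U (hfU i) i.1 (hzV i) a (b i) (h i) (hb i) (hh i) (hab i)
  -- glue the local inverses
  have hV'U : ∀ i j : ι, i ≠ j → V' i ⊓ V' j ≤ U := by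
    intro i j hij y hy
    by_contra hyU
    have h1 := hVz i y (hV'V i hy.1) hyU
    have h2 := hVz j y (hV'V j hy.2) hyU
    exact hij (Subtype.ext (h1.symm.trans h2))
  have hcompat : ∀ i j : ι, res (inf_le_left : V' i ⊓ V' j ≤ V' i) (β i) =
      res (inf_le_right : V' i ⊓ V' j ≤ V' j) (β j) := by
    intro i j
    by_cases hij : i = j
    · subst hij
      rfl
    · have hWU := hV'U i j hij
      have hi : res hWU a * res (inf_le_left : V' i ⊓ V' j ≤ V' i) (β i) = 1 := by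
        have := congrArg (res (le_inf hWU inf_le_left : V' i ⊓ V' j ≤ U ⊓ V' i)) (hβ i)
        rwa [map_mul, Glue.res_res, Glue.res_res, map_one] at this
      have hj : res hWU a * res (inf_le_right : V' i ⊓ V' j ≤ V' j) (β j) = 1 := by
        have := congrArg (res (le_inf hWU inf_le_right : V' i ⊓ V' j ≤ U ⊓ V' j)) (hβ j)
        rwa [map_mul, Glue.res_res, Glue.res_res, map_one] at this
      calc res (inf_le_left : V' i ⊓ V' j ≤ V' i) (β i)
          = res (inf_le_left : V' i ⊓ V' j ≤ V' i) (β i) *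
              (res hWU a * res (inf_le_right : V' i ⊓ V' j ≤ V' j) (β j)) := by
            rw [hj, mul_one]
        _ = (res hWU a * res (inf_le_left : V' i ⊓ V' j ≤ V' i) (β i)) *
              res (inf_le_right : V' i ⊓ V' j ≤ V' j) (β j) := by ring
        _ = res (inf_le_right : V' i ⊓ V' j ≤ V' j) (β j) := by rw [hi, one_mul]
  let VV : X.Opens := ⨆ i, V' i
  obtain ⟨βV, hβV, -⟩ := existsUnique_glue_fn V' VV (fun i => le_iSup V' i) le_rfl β hcompat
  have habV : res (inf_le_left : U ⊓ VV ≤ U) a * res (inf_le_right : U ⊓ VV ≤ VV) βV = 1 := by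
    refine fn_ext_of_cover (fun i : ι => U ⊓ V' i) (U ⊓ VV)
      (fun i => inf_le_inf_left U (le_iSup V' i)) ?_ _ _ fun i => ?_
    · rintro y ⟨hyU, hyV⟩
      obtain ⟨i, hi⟩ := Opens.mem_iSup.1 hyV
      exact Opens.mem_iSup.2 ⟨i, hyU, hi⟩
    · rw [map_mul, Glue.res_res, Glue.res_res, map_one]
      have h1 : res ((inf_le_inf_left U (le_iSup V' i)).trans inf_le_right :
          U ⊓ V' i ≤ VV) βV = res (inf_le_right : U ⊓ V' i ≤ V' i) (β i) := by
        rw [← hβV i, Glue.res_res]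
      rw [h1]
      exact hβ i
  have hcov : U ⊔ VV = ⊤ := by
    apply le_antisymm le_top
    intro y _
    by_cases hy : y ∈ U
    · exact Or.inl hy
    · exact Or.inr (Opens.mem_iSup.2 ⟨⟨y, hy⟩, hzV' ⟨y, hy⟩⟩)
  obtain ⟨L, ts, tt, hL, h1, h2, h3⟩ :=
    exists_invertible_two_sections_of_two_cover U VV hcov a βV habV
  refine ⟨L, ts, tt, hL, le_antisymm ?_ h1, fun x hx => ?_⟩
  · intro y hy
    by_contra hyU
    have hyV' : y ∈ V' ⟨y, hyU⟩ := hzV' ⟨y, hyU⟩
    have hyVV : y ∈ VV := Opens.mem_iSup.2 ⟨⟨y, hyU⟩, hyV'⟩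
    have h4 : y ∈ X.basicOpen βV := by
      rw [← h2]; exact ⟨hy, hyVV⟩
    have h5 : X.basicOpen (res (le_iSup V' ⟨y, hyU⟩) βV) = V' ⟨y, hyU⟩ ⊓ X.basicOpen βV :=
      Scheme.basicOpen_res _ _ _
    rw [hβV ⟨y, hyU⟩] at h5
    exact hzβ ⟨y, hyU⟩ (h5 ▸ ⟨hyV', h4⟩)
  · exact h3 (Opens.mem_iSup.2 ⟨⟨x, hx⟩, hzV' ⟨x, hx⟩⟩)

/-- **A Noetherian separated scheme of dimension `≤ 1` has an ample invertible module.** -/
theorem exists_isAmple [IsNoetherian X] [X.IsSeparated] (hdim : topologicalKrullDim X ≤ 1) :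
    ∃ N : X.Modules, CohB1.IsAmple N := by
  have key : ∃ N : X.Modules, AmpleOn N Set.univ := by
    refine isCompact_univ.induction_on (p := fun V => ∃ N : X.Modules, AmpleOn N V)
      ⟨unitMod X, ampleOn_unit_empty X⟩ ?_ ?_ ?_
    · rintro s t hst ⟨N, hN⟩
      exact ⟨N, hN.mono hst⟩
    · rintro s t ⟨N, hN⟩ ⟨N', hN'⟩
      exact ⟨_, hN.tensor hN'⟩
    · intro x _
      obtain ⟨U, hU, hxU, hUd⟩ := exists_dense_affine x
      obtain ⟨L, ts, tt, hL, hs, ht⟩ := exists_invertible_two_sections hdim U hU hUd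
      refine ⟨U, mem_nhdsWithin_of_mem_nhds (U.isOpen.mem_nhds hxU), L, hL, fun y => ?_,
        fun y hy => ?_⟩
      · by_cases hy : y ∈ U
        · exact ⟨homOfSection L ts, by rw [hs]; exact hy⟩
        · exact ⟨homOfSection L tt, ht y hy⟩
      · exact ⟨homOfSection L ts, by rw [hs]; exact hy, by rw [hs]; exact hU⟩
  obtain ⟨N, hN⟩ := key
  exact ⟨N, isAmple_of_ampleOn_univ hN⟩

end Groth.Agent.H5.Pole
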