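import Mathlib
import Groth.Agent.Lib.Helper5.Pole.G
import Groth.Agent.Lib.Helper5.VAmple.L
import Groth.Agent.Lib.Lead.PN.OverBridge

/-!
# Separated curves of finite type over a field are quasi-projective
-/

set_option autoImplicit false
universe u
open CategoryTheory CategoryTheory.Limits AlgebraicGeometry TopologicalSpace Opposite

namespace Groth.Agent.H5.Pole

open Groth.Agent.LD Groth.Agent.LD.QC Groth.Agent.H5.VAmple

variable (k : Type u) [Field k] (X : Scheme.{u}) [X.Over (Spec (CommRingCat.of k))]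
  [IsSeparated (X ↘ (Spec (CommRingCat.of k)))] [LocallyOfFiniteType (X ↘ (Spec (CommRingCat.of k)))]
  [QuasiCompact (X ↘ (Spec (CommRingCat.of k)))]

include k in
lemma isNoetherian_of_finiteType : IsNoetherian X := by
  haveI : IsLocallyNoetherian X :=
    LocallyOfFiniteType.isLocallyNoetherian (X ↘ Spec (CommRingCat.of k))
  haveI : CompactSpace X :=
    QuasiCompact.compactSpace_of_compactSpace (X ↘ Spec (CommRingCat.of k))
  exact {}

include k in
lemma isSeparated_of_over : X.IsSeparated :=
  (HasAffineProperty.iff_of_isAffine (P := @IsSeparated)).mp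
    (inferInstance : IsSeparated (X ↘ Spec (CommRingCat.of k)))

/-- a quasi-compact immersion into `P^n_k` over `k`. -/
theorem exists_immersion_projSpaceOver (hdim : topologicalKrullDim X ≤ 1) :
    ∃ (n : ℕ) (i : X ⟶ CohB1.ProjSpaceOver n (Spec (CommRingCat.of k))), IsImmersion i ∧
      QuasiCompact i ∧ i ≫ CohB1.ProjSpaceOver.toBase n _ = X ↘ (Spec (CommRingCat.of k)) := by
  haveI := isNoetherian_of_finiteType k X
  haveI := isSeparated_of_over k X
  obtain ⟨L, hL⟩ := exists_isAmple (X := X) hdim
  exact exists_immersion_of_isAmple (X ↘ Spec (CommRingCat.of k)) L hL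

theorem exists_immersion_projSpace (hdim : topologicalKrullDim X ≤ 1) :
    ∃ (n : ℕ) (i : X ⟶ CohB1.ProjSpace n k), IsImmersion i ∧
      i ≫ CohB1.ProjSpace.toSpec n k = X ↘ (Spec (CommRingCat.of k)) := by
  obtain ⟨n, i, hi, -, hif⟩ := exists_immersion_projSpaceOver k X hdim
  haveI := hi
  refine ⟨n, i ≫ (PN.OB.bridge n k).inv, inferInstance, ?_⟩
  rw [Category.assoc, PN.OB.bridge_inv_toSpec, hif]

end Groth.Agent.H5.Pole
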