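import Mathlib
import Groth.Agent.Lib.Helper5.Pole.H
import Groth.Agent.Lib.Helper5.ImmD.C
import Groth.Agent.Lib.Helper5.AG.ProjProper
import Groth.Agent.Lib.Helper1.RelDim

/-!
# Projective compactification of separated curves of finite type over a field
-/

set_option autoImplicit false
universe u
open CategoryTheory CategoryTheory.Limits AlgebraicGeometry TopologicalSpace Opposite

namespace Groth.Agent.H5.Pole

open Groth.Agent.LD Groth.Agent.LD.QC Groth.Agent.H4

/-- the complement of an open containing all maximal points is a finite set of closed points,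
in a Noetherian scheme without specialization chains of length two. -/
theorem finite_closedPts' {Y : Scheme.{u}} [IsNoetherian Y]
    (hd1 : ∀ x₀ x₁ x₂ : Y, x₀ ⤳ x₁ → x₁ ⤳ x₂ → x₀ = x₁ ∨ x₁ = x₂)
    (A₀ : Y.Opens) (hgen : ∀ z : Y, (∀ x : Y, x ⤳ z → x = z) → z ∈ A₀) :
    ((A₀ : Set Y)ᶜ).Finite ∧ ∀ z : Y, z ∉ A₀ → IsClosed ({z} : Set Y) := by
  have hcl : ∀ z : Y, z ∉ A₀ → IsClosed ({z} : Set Y) := by
    intro z hz
    have h1 : ¬ ∀ x : Y, x ⤳ z → x = z := fun h => hz (hgen z h)
    push Not at h1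
    obtain ⟨x, hxz, hne⟩ := h1
    rw [← closure_subset_iff_isClosed]
    intro z' hz'
    have h2 : z ⤳ z' := specializes_iff_mem_closure.mpr hz'
    rcases hd1 x z z' hxz h2 with h | h
    · exact absurd h hne
    · exact Set.mem_singleton_iff.mpr h.symm
  refine ⟨?_, hcl⟩
  obtain ⟨S, hSfin, hScl, hSirr, hSU⟩ := NoetherianSpace.exists_finite_set_isClosed_irreducible
    (s := (A₀ : Set Y)ᶜ) A₀.isOpen.isClosed_compl
  rw [hSU]
  refine Set.Finite.sUnion hSfin (fun t ht => ?_)
  obtain ⟨x, hx⟩ := QuasiSober.sober (hSirr t ht) (hScl t ht)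
  have hxt : x ∈ t := by rw [← hx.def]; exact subset_closure (Set.mem_singleton x)
  have hxA : x ∉ A₀ := by
    have h5 : x ∈ (A₀ : Set Y)ᶜ := by rw [hSU]; exact ⟨t, ht, hxt⟩
    exact h5
  have h6 : t = {x} := by rw [← hx.def]; exact (hcl x hxA).closure_eq
  rw [h6]; exact Set.finite_singleton x

variable (k : Type u) [Field k] (X : Scheme.{u}) [X.Over (Spec (CommRingCat.of k))]
  [IsSeparated (X ↘ (Spec (CommRingCat.of k)))] [LocallyOfFiniteType (X ↘ (Spec (CommRingCat.of k)))]
  [QuasiCompact (X ↘ (Spec (CommRingCat.of k)))]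

theorem exists_compactification (hdim : topologicalKrullDim X ≤ 1) :
    ∃ (d : ℕ) (Y : Scheme.{u}) (c : Y ⟶ CohB1.ProjSpace d k) (j : X ⟶ Y),
      IsClosedImmersion c ∧ IsOpenImmersion j ∧
      j ≫ c ≫ CohB1.ProjSpace.toSpec d k = X ↘ (Spec (CommRingCat.of k)) ∧
      Dense (Set.range j.base) ∧ IsSchemeTheoreticallyDominant j ∧
      (Set.range j.base)ᶜ.Finite ∧ ∀ y ∈ (Set.range j.base)ᶜ, IsClosed ({y} : Set Y) := by
  obtain ⟨n, i, hi, hqc, hif⟩ := exists_immersion_projSpaceOver k X hdim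
  haveI := hi
  haveI := hqc
  let Y : Scheme.{u} := i.image
  let j : X ⟶ Y := i.toImage
  let c₀ : Y ⟶ CohB1.ProjSpaceOver n (Spec (CommRingCat.of k)) := i.imageι
  haveI : IsOpenImmersion j := inferInstanceAs (IsOpenImmersion i.toImage)
  haveI : IsClosedImmersion c₀ := inferInstanceAs (IsClosedImmersion i.imageι)
  letI : Y.Over (Spec (CommRingCat.of k)) :=
    ⟨c₀ ≫ CohB1.ProjSpaceOver.toBase n (Spec (CommRingCat.of k))⟩
  have hYover : Y ↘ Spec (CommRingCat.of k) =
      c₀ ≫ CohB1.ProjSpaceOver.toBase n (Spec (CommRingCat.of k)) := rfl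
  haveI := Groth.Agent.H5.AG.isProper_toBase n (Spec (CommRingCat.of k))
  haveI : IsProper (Y ↘ Spec (CommRingCat.of k)) := by rw [hYover]; infer_instance
  haveI : IsNoetherian Y := isNoetherian_of_finiteType k Y
  have hdense : Dense (Set.range j.base) := i.toImage.denseRange
  have hjc : j ≫ c₀ = i := i.toImage_imageι
  -- no chains of length two
  have hd1 : ∀ y₀ y₁ y₂ : Y, y₀ ⤳ y₁ → y₁ ⤳ y₂ → y₀ = y₁ ∨ y₁ = y₂ := by
    intro y₀ y₁ y₂ h01 h12
    let Z : Set Y := irreducibleComponent y₀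
    have hZirr : IsIrreducible Z := isIrreducible_irreducibleComponent
    have hZcl : IsClosed Z := isClosed_irreducibleComponent
    have hZmem : Z ∈ irreducibleComponents Y := irreducibleComponent_mem_irreducibleComponents y₀
    obtain ⟨o, ho, hone, hoZ⟩ :=
      NoetherianSpace.exists_isOpen_nonempty_subset_irreducibleComponent _ hZmem
    obtain ⟨p, hpo, hpU⟩ := hdense.inter_open_nonempty o ho hone
    have hne : ((j.opensRange : Set Y) ∩ Z).Nonempty := ⟨p, hpU, hoZ hpo⟩
    have h1 := Groth.Agent.H1.RelDim.dim_inter_eq_dim (Y ↘ Spec (CommRingCat.of k)) Z hZirr hZcl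
      j.opensRange hne
    have h2 : topologicalKrullDim ↥((j.opensRange : Set Y) ∩ Z) ≤
        topologicalKrullDim ↥(j.opensRange : Set Y) :=
      (Topology.IsInducing.topologicalKrullDim_le
        (f := Set.inclusion (Set.inter_subset_left : (j.opensRange : Set Y) ∩ Z ⊆ j.opensRange))
        (Topology.IsInducing.of_comp (g := Subtype.val) (continuous_inclusion _)
          continuous_subtype_val Topology.IsInducing.subtypeVal))
    have h3 : topologicalKrullDim X = topologicalKrullDim ↥(j.opensRange : Set Y) :=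
      IsHomeomorph.topologicalKrullDim_eq _
        j.isOpenEmbedding.toIsEmbedding.toHomeomorph.isHomeomorph
    have hZdim : topologicalKrullDim ↥Z ≤ 1 := by
      rw [← h1]; exact h2.trans (h3 ▸ hdim)
    have hy₀ : y₀ ∈ Z := mem_irreducibleComponent
    have hy₁ : y₁ ∈ Z := h01.mem_closed hZcl hy₀
    have hy₂ : y₂ ∈ Z := h12.mem_closed hZcl hy₁
    rcases PicDim1.d1 hZdim (⟨y₀, hy₀⟩ : Z) ⟨y₁, hy₁⟩ ⟨y₂, hy₂⟩
      ((subtype_specializes_iff _ _).2 h01) ((subtype_specializes_iff _ _).2 h12) with h | h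
    · exact Or.inl (congrArg Subtype.val h)
    · exact Or.inr (congrArg Subtype.val h)
  obtain ⟨E, hE1, hE2, hE3⟩ := PicDim1.exists_maxpts (Y := Y)
  have hgen : ∀ z : Y, (∀ x : Y, x ⤳ z → x = z) → z ∈ j.opensRange :=
    fun z hz => hE3 j.opensRange hdense z (hE2 z hz)
  obtain ⟨hfin, hcl⟩ := finite_closedPts' hd1 j.opensRange hgen
  refine ⟨n, Y, c₀ ≫ (PN.OB.bridge n k).inv, j, inferInstance, inferInstance, ?_, hdense,
    Groth.Agent.H5.ImmD.isSchemeTheoreticallyDominant_toImage i, hfin, fun y hy => hcl y hy⟩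
  rw [Category.assoc, PN.OB.bridge_inv_toSpec, ← Category.assoc, hjc, hif]

end Groth.Agent.H5.Pole
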